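import Cfsg.Agent.Lib.Schur.CoverC
import Cfsg.Agent.Lib.PermComp.Mathieu.Bridge
import Cfsg.Agent.Lib.Golay.OutGroups

/-!
# Two generators of `M22` and a stabilizer chain on the 24 points
-/

set_option autoImplicit false
set_option maxRecDepth 100000

namespace Cfsg.Agent.Lib.Schur.Cover.M22Base

open Cfsg Cfsg.Agent.Lib.PermComp Cfsg.Agent.Lib.PermComp.G24 Cfsg.Agent.Lib.PermComp.Mathieu.Bridge
open Cfsg.Agent.Lib.Golay.Perm Cfsg.Agent.Lib.Golay.OutGroups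

def c2_n : Nat := nat_lit 24
def c2_w : Nat := nat_lit 5
def c2_mask : Nat := nat_lit 31
def c2_L : Nat := nat_lit 120
def c2_maskL : Nat := nat_lit 0xffffffffffffffffffffffffffffff
def c2_idc : Nat := nat_lit 0xbdab49ca307b9ac5a928398a418820
def c2_T : List Nat := [nat_lit 0xba4cd62e3078a9392ac7454241b8a0, nat_lit 0xbcc911a9686552f2ca0d39a81159c0]
def c2_prog : List (Nat × Nat × Nat) := [(nat_lit 1, nat_lit 1, nat_lit 0), (nat_lit 1, nat_lit 1, nat_lit 0), (nat_lit 0, nat_lit 3, nat_lit 2), (nat_lit 0, nat_lit 0, nat_lit 4), (nat_lit 0, nat_lit 0, nat_lit 4), (nat_lit 0, nat_lit 0, nat_lit 5), (nat_lit 0, nat_lit 4, nat_lit 4), (nat_lit 0, nat_lit 0, nat_lit 1), (nat_lit 0, nat_lit 8, nat_lit 9), (nat_lit 0, nat_lit 0, nat_lit 10), (nat_lit 0, nat_lit 0, nat_lit 10), (nat_lit 0, nat_lit 0, nat_lit 12), (nat_lit 0, nat_lit 0, nat_lit 12), (nat_lit 0, nat_lit 0,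 nat_lit 13), (nat_lit 0, nat_lit 0, nat_lit 15), (nat_lit 0, nat_lit 0, nat_lit 15), (nat_lit 0, nat_lit 0, nat_lit 16), (nat_lit 0, nat_lit 16, nat_lit 15), (nat_lit 0, nat_lit 0, nat_lit 17), (nat_lit 0, nat_lit 0, nat_lit 17), (nat_lit 0, nat_lit 0, nat_lit 18), (nat_lit 0, nat_lit 16, nat_lit 22), (nat_lit 0, nat_lit 0, nat_lit 23), (nat_lit 0, nat_lit 0, nat_lit 23), (nat_lit 0, nat_lit 0, nat_lit 25), (nat_lit 0, nat_lit 0, nat_lit 25), (nat_lit 0, nat_lit 0, nat_lit 26), (nat_lit 0, nat_lit 0, nat_lit 28), (nat_lit 0, nat_lit 26, nat_lit 27), (nat_lit 0, nat_lit 0, nat_lit 1), (nat_lit 0, nat_lit 30, nat_lit 30), (nat_lit 0, nat_lit 0, nat_lit 31), (nat_lit 0, nat_lit 0, nat_lit 33), (nat_lit 0, nat_lit 0, nat_lit 33), (nat_lit 0, nat_lit 0, nat_lit 35), (nat_lit 0, nat_lit 0, nat_lit 35), (nat_lit 0, nat_lit 0, nat_lit 36), (nat_lit 0, nat_lit 35, nat_lit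 0), (nat_lit 0, nat_lit 3, nat_lit 39), (nat_lit 0, nat_lit 0, nat_lit 39), (nat_lit 0, nat_lit 0, nat_lit 41), (nat_lit 0, nat_lit 23, nat_lit 0), (nat_lit 0, nat_lit 33, nat_lit 42), (nat_lit 0, nat_lit 0, nat_lit 43), (nat_lit 0, nat_lit 0, nat_lit 44), (nat_lit 0, nat_lit 0, nat_lit 45), (nat_lit 0, nat_lit 0, nat_lit 46), (nat_lit 0, nat_lit 0, nat_lit 48), (nat_lit 0, nat_lit 0, nat_lit 48), (nat_lit 0, nat_lit 28, nat_lit 0), (nat_lit 1, nat_lit 42, nat_lit 0), (nat_lit 1, nat_lit 1, nat_lit 0), (nat_lit 1, nat_lit 35, nat_lit 0), (nat_lit 0, nat_lit 15, nat_lit 36), (nat_lit 0, nat_lit 0, nat_lit 4), (nat_lit 0, nat_lit 0, nat_lit 38), (nat_lit 0, nat_lit 4, nat_lit 5), (nat_lit 0, nat_lit 0, nat_lit 4), (nat_lit 0, nat_lit 0, nat_lit 2), (nat_lit 0, nat_lit 51, nat_lit 51), (nat_lit 0, nat_lit 0, nat_lit 22), (nat_lit 0, nat_lit 0, nat_lit 53), (nat_lit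 0, nat_lit 0, nat_lit 32), (nat_lit 0, nat_lit 46, nat_lit 55), (nat_lit 0, nat_lit 0, nat_lit 22), (nat_lit 0, nat_lit 0, nat_lit 48), (nat_lit 0, nat_lit 0, nat_lit 36), (nat_lit 0, nat_lit 0, nat_lit 37), (nat_lit 0, nat_lit 0, nat_lit 60), (nat_lit 0, nat_lit 0, nat_lit 52), (nat_lit 0, nat_lit 53, nat_lit 28), (nat_lit 0, nat_lit 0, nat_lit 54), (nat_lit 0, nat_lit 0, nat_lit 22), (nat_lit 0, nat_lit 0, nat_lit 43), (nat_lit 0, nat_lit 0, nat_lit 24), (nat_lit 0, nat_lit 0, nat_lit 25), (nat_lit 0, nat_lit 0, nat_lit 46), (nat_lit 0, nat_lit 25, nat_lit 25), (nat_lit 0, nat_lit 0, nat_lit 27), (nat_lit 0, nat_lit 0, nat_lit 26), (nat_lit 0, nat_lit 0, nat_lit 28), (nat_lit 0, nat_lit 0, nat_lit 4), (nat_lit 0, nat_lit 44, nat_lit 44), (nat_lit 0, nat_lit 0, nat_lit 45), (nat_lit 0, nat_lit 0, nat_lit 76), (nat_lit 0, nat_lit 0, nat_lit 77), (nat_lit 0, nat_lit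 0, nat_lit 56), (nat_lit 0, nat_lit 0, nat_lit 49), (nat_lit 0, nat_lit 0, nat_lit 58), (nat_lit 0, nat_lit 0, nat_lit 51), (nat_lit 0, nat_lit 39, nat_lit 0), (nat_lit 0, nat_lit 27, nat_lit 61), (nat_lit 0, nat_lit 0, nat_lit 42), (nat_lit 0, nat_lit 0, nat_lit 51), (nat_lit 0, nat_lit 0, nat_lit 77), (nat_lit 0, nat_lit 0, nat_lit 53), (nat_lit 0, nat_lit 0, nat_lit 58), (nat_lit 1, nat_lit 38, nat_lit 0), (nat_lit 1, nat_lit 16, nat_lit 0), (nat_lit 0, nat_lit 17, nat_lit 2), (nat_lit 0, nat_lit 0, nat_lit 18), (nat_lit 0, nat_lit 0, nat_lit 10), (nat_lit 0, nat_lit 0, nat_lit 39), (nat_lit 0, nat_lit 0, nat_lit 6), (nat_lit 0, nat_lit 0, nat_lit 7), (nat_lit 0, nat_lit 0, nat_lit 14), (nat_lit 0, nat_lit 0, nat_lit 24), (nat_lit 0, nat_lit 0, nat_lit 44), (nat_lit 0, nat_lit 0, nat_lit 17), (nat_lit 0, nat_lit 0, nat_lit 12), (nat_lit 0, nat_lit 12, nat_lit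 11), (nat_lit 0, nat_lit 0, nat_lit 13), (nat_lit 0, nat_lit 0, nat_lit 2), (nat_lit 0, nat_lit 54, nat_lit 16), (nat_lit 0, nat_lit 0, nat_lit 23), (nat_lit 0, nat_lit 0, nat_lit 45), (nat_lit 0, nat_lit 0, nat_lit 19), (nat_lit 0, nat_lit 0, nat_lit 20), (nat_lit 0, nat_lit 0, nat_lit 36), (nat_lit 0, nat_lit 0, nat_lit 60), (nat_lit 0, nat_lit 0, nat_lit 23), (nat_lit 0, nat_lit 0, nat_lit 51), (nat_lit 0, nat_lit 11, nat_lit 0), (nat_lit 0, nat_lit 23, nat_lit 32), (nat_lit 0, nat_lit 0, nat_lit 33), (nat_lit 0, nat_lit 0, nat_lit 66), (nat_lit 0, nat_lit 0, nat_lit 44), (nat_lit 1, nat_lit 14, nat_lit 0), (nat_lit 1, nat_lit 5, nat_lit 0), (nat_lit 1, nat_lit 2, nat_lit 0), (nat_lit 0, nat_lit 17, nat_lit 17), (nat_lit 0, nat_lit 0, nat_lit 18), (nat_lit 0, nat_lit 0, nat_lit 5), (nat_lit 0, nat_lit 0, nat_lit 6), (nat_lit 0, nat_lit 0, nat_lit 11), (nat_lit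 0, nat_lit 0, nat_lit 8), (nat_lit 0, nat_lit 0, nat_lit 23), (nat_lit 0, nat_lit 0, nat_lit 14), (nat_lit 0, nat_lit 10, nat_lit 8), (nat_lit 0, nat_lit 0, nat_lit 9), (nat_lit 0, nat_lit 0, nat_lit 11), (nat_lit 0, nat_lit 0, nat_lit 3)]
def c2_s0 : Nat := nat_lit 0xba4cd62e3078a9392ac7454241b8a0
def c2_s1 : Nat := nat_lit 0xb920a35665144f61d12c5ba486bc20
def c2_s2 : Nat := nat_lit 0xba0b4740d27cd646a9361c6ac38820
def c2_s3 : Nat := nat_lit 0xbb4c93ae2453ac893e8c9d4b018820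
def c2_s4 : Nat := nat_lit 0xbb1f3a4232ab916218ed4a8ab18820
def c2_s5 : Nat := nat_lit 0xbc12ba18ad946c79b11553dc418820
noncomputable def c2_lev0 : Core.Lev := Core.mkLev c2_n c2_w c2_mask c2_L c2_maskL c2_idc (nat_lit 1) [c2_s5, c2_s3, c2_s4, c2_s2, c2_s1, c2_s0] [(nat_lit 5, c2_s0, nat_lit 1), (nat_lit 14, c2_s5, nat_lit 5), (nat_lit 21, c2_s2, nat_lit 5), (nat_lit 18, c2_s1, nat_lit 5), (nat_lit 17, c2_s5, nat_lit 14), (nat_lit 19, c2_s2, nat_lit 14), (nat_lit 2, c2_s0, nat_lit 14), (nat_lit 9, c2_s5, nat_lit 21), (nat_lit 6, c2_s3, nat_lit 21), (nat_lit 15, c2_s4, nat_lit 21), (nat_lit 16, c2_s1, nat_lit 21), (nat_lit 11, c2_s3, nat_lit 18), (nat_lit 20, c2_s5, nat_lit 19), (nat_lit 7, c2_s3, nat_lit 19), (nat_lit 12, c2_s0, nat_lit 19), (nat_lit 8, c2_s5, nat_lit 9), (nat_lit 22, c2_s0, nat_lit 9), (nat_lit 10, c2_s4, nat_lit 6), (nat_lit 13, c2_s5, nat_lit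 16), (nat_lit 4, c2_s3, nat_lit 16), (nat_lit 3, c2_s1, nat_lit 11)]
noncomputable def c2_lev1 : Core.Lev := Core.mkLev c2_n c2_w c2_mask c2_L c2_maskL c2_idc (nat_lit 2) [c2_s5, c2_s3, c2_s4, c2_s2, c2_s1] [(nat_lit 15, c2_s1, nat_lit 2), (nat_lit 18, c2_s5, nat_lit 15), (nat_lit 10, c2_s3, nat_lit 15), (nat_lit 21, c2_s4, nat_lit 15), (nat_lit 6, c2_s5, nat_lit 18), (nat_lit 11, c2_s3, nat_lit 18), (nat_lit 16, c2_s4, nat_lit 18), (nat_lit 12, c2_s5, nat_lit 10), (nat_lit 20, c2_s1, nat_lit 10), (nat_lit 9, c2_s5, nat_lit 21), (nat_lit 5, c2_s2, nat_lit 21), (nat_lit 17, c2_s2, nat_lit 6), (nat_lit 14, c2_s1, nat_lit 6), (nat_lit 19, c2_s5, nat_lit 11), (nat_lit 4, c2_s4, nat_lit 11), (nat_lit 13, c2_s2, nat_lit 11), (nat_lit 3, c2_s1, nat_lit 11), (nat_lit 7, c2_s5, nat_lit 12), (nat_lit 8, c2_s3, nat_lit 12), (nat_lit 22, c2_s4, nat_lit 12)]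
noncomputable def c2_lev2 : Core.Lev := Core.mkLev c2_n c2_w c2_mask c2_L c2_maskL c2_idc (nat_lit 3) [c2_s5, c2_s3, c2_s4, c2_s2] [(nat_lit 7, c2_s2, nat_lit 3), (nat_lit 10, c2_s5, nat_lit 7), (nat_lit 19, c2_s3, nat_lit 7), (nat_lit 9, c2_s4, nat_lit 7), (nat_lit 12, c2_s5, nat_lit 10), (nat_lit 15, c2_s3, nat_lit 10), (nat_lit 6, c2_s4, nat_lit 10), (nat_lit 20, c2_s5, nat_lit 19), (nat_lit 14, c2_s2, nat_lit 19), (nat_lit 8, c2_s5, nat_lit 9), (nat_lit 22, c2_s4, nat_lit 12), (nat_lit 4, c2_s2, nat_lit 12), (nat_lit 18, c2_s5, nat_lit 15), (nat_lit 21, c2_s4, nat_lit 15), (nat_lit 17, c2_s2, nat_lit 6), (nat_lit 11, c2_s5, nat_lit 20), (nat_lit 13, c2_s4, nat_lit 8), (nat_lit 16, c2_s5, nat_lit 22), (nat_lit 5, c2_s2, nat_lit 21)]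
noncomputable def c2_lev3 : Core.Lev := Core.mkLev c2_n c2_w c2_mask c2_L c2_maskL c2_idc (nat_lit 4) [c2_s5, c2_s3, c2_s4] [(nat_lit 16, c2_s3, nat_lit 4), (nat_lit 11, c2_s4, nat_lit 4), (nat_lit 13, c2_s5, nat_lit 16), (nat_lit 18, c2_s4, nat_lit 16), (nat_lit 19, c2_s5, nat_lit 11), (nat_lit 22, c2_s5, nat_lit 13), (nat_lit 8, c2_s4, nat_lit 13), (nat_lit 6, c2_s5, nat_lit 18), (nat_lit 20, c2_s5, nat_lit 19), (nat_lit 7, c2_s3, nat_lit 19), (nat_lit 12, c2_s4, nat_lit 22), (nat_lit 21, c2_s5, nat_lit 8), (nat_lit 15, c2_s5, nat_lit 6), (nat_lit 10, c2_s4, nat_lit 6), (nat_lit 9, c2_s3, nat_lit 20)]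
noncomputable def c2_lev4 : Core.Lev := Core.mkLev c2_n c2_w c2_mask c2_L c2_maskL c2_idc (nat_lit 5) [c2_s5] [(nat_lit 14, c2_s5, nat_lit 5), (nat_lit 17, c2_s5, nat_lit 14)]
noncomputable def c2_levels : List Core.Lev := [c2_lev0, c2_lev1, c2_lev2, c2_lev3, c2_lev4]

theorem hc2 : Core.checkAll 24 c2_w c2_mask c2_L c2_maskL c2_idc c2_T c2_prog c2_levels = true := by decide +kernel
theorem hord2 : Core.orderC c2_levels = 443520 := by decide +kernel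
theorem hmem : ∀ c ∈ c2_T, checkAut c = true ∧ img c 23 = 23 ∧ img c 0 = 0 := by decide +kernel
theorem w_eq : c2_w = 5 := rfl
theorem mask_eq : c2_mask = 31 := rfl

theorem repT : ∀ c ∈ c2_T, ∃ g, Core.Rep 5 31 e24 c g := fun c hc => exists_rep24 (hmem c hc).1

theorem main2 : (31 : ℕ) = 2 ^ 5 - 1 ∧ (∀ i < 24, Core.app 5 31 c2_idc i = i) ∧ c2_idc < 2 ^ (24 * 5) ∧
      Core.Sem 5 31 e24 c2_L c2_maskL c2_levels ∧ Core.H 5 31 e24 c2_T = Core.H 5 31 e24 (Core.topGens c2_levels) ∧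
      Nat.card (Core.H 5 31 e24 c2_T) = Core.orderC c2_levels :=
  Core.main_of_checkAll repT hc2

theorem card_H : Nat.card (Core.H 5 31 e24 c2_T) = 443520 := by
  rw [main2.2.2.2.2.2, hord2]

theorem H_le : Core.H 5 31 e24 c2_T ≤ Spor.M22 := by
  apply Mathieu.Bridge.H_le
  intro c hc g hg
  obtain ⟨h1, h2, h3⟩ := hmem c hc
  have h4 : g = Cfsg.Agent.Lib.Golay.Perm.g c := Equiv.ext fun p => by
    rw [g_apply (checkAut_valid h1)]
    exact apply_of_rep24 hg p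
  rw [h4]
  exact g_mem_M22 h1 h2 h3

theorem H_eq : Core.H 5 31 e24 c2_T = Spor.M22 :=
  Subgroup.eq_of_le_of_card_ge H_le (by rw [card_H, card_M22])

theorem hbase {Pts : List ℕ} (hP : ∀ x ∈ c2_levels.map Core.Lev.base, x ∈ Pts) :
    ∀ g ∈ Core.H 5 31 e24 c2_T, (∀ b : GolayPt, ((e24 b : Fin 24) : ℕ) ∈ Pts → g b = b) → g = 1 := by
  intro g hg hfix
  obtain ⟨-, -, -, hsem, hH, -⟩ := main2
  have hg' : g ∈ Core.H 5 31 e24 (Core.topGens c2_levels) := by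
    rw [← hH]; exact hg
  exact CoverC.eq_one_of_fix_base c2_levels hsem g hg' (fun a ha => hfix a (hP _ ha))

end Cfsg.Agent.Lib.Schur.Cover.M22Base
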