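import Cfsg.Agent.Lib.Schur.Cover.Fi24T.Chk0
import Cfsg.Agent.Lib.Schur.Cover.Fi24T.Chk1
import Cfsg.Agent.Lib.Schur.Cover.Fi24T.Chk2
import Cfsg.Agent.Lib.Schur.Cover.Fi24T.Chk3
import Cfsg.Agent.Lib.Schur.Cover.Fi24T.Chk4
import Cfsg.Agent.Lib.Schur.Cover.Fi24T.Chk5
import Cfsg.Agent.Lib.Schur.Cover.Fi24T.Chk6
import Cfsg.Agent.Lib.Schur.Cover.Fi24T.Chk7
import Cfsg.Agent.Lib.Schur.Cover.Fi24T.Chk8
import Cfsg.Agent.Lib.Schur.Cover.Fi24T.Chk9
import Cfsg.Agent.Lib.Schur.Cover.Fi24T.Chk10
import Cfsg.Agent.Lib.Schur.Cover.Fi24T.Chk11
import Cfsg.Agent.Lib.Schur.Cover.Fi24T.Chk12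
import Cfsg.Agent.Lib.Schur.Cover.Fi24T.Chk13
import Cfsg.Agent.Lib.Schur.Cover.Fi24T.Chk14
import Cfsg.Agent.Lib.Schur.Cover.Fi24T.Chk15
import Cfsg.Agent.Lib.Schur.Cover.Fi24T.Chk16
import Cfsg.Agent.Lib.Schur.Cover.Fi24T.Chk17
import Cfsg.Agent.Lib.Schur.Cover.Fi24T.Chk18
import Cfsg.Agent.Lib.Schur.Cover.Fi24T.Chk19
import Cfsg.Agent.Lib.Schur.Cover.Fi24T.Chk20
import Cfsg.Agent.Lib.Schur.Cover.Fi24T.Chk21
import Cfsg.Agent.Lib.Schur.Cover.Fi24T.Chk22
import Cfsg.Agent.Lib.Schur.Cover.Fi24T.Chk23
import Cfsg.Agent.Lib.Schur.CoverP2
import Cfsg.Agent.Lib.Schur.Fi24Model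
import Cfsg.Agent.Lib.TC.F24.Abs2

/-!
# A stem extension of `Fi₂₄′` with kernel of order 3

The threefold cover of `Fi₂₄′` extends to a group in which the transpositions invert the kernel: twisted monomial
tables on the 306936 transpositions.
-/

set_option autoImplicit false
set_option maxRecDepth 100000

namespace Cfsg.Agent.Lib.Schur.Cover.Fi24T

open Cfsg Subgroup Cfsg.Agent.Lib.Schur.CoverTw Cfsg.Agent.Lib.Schur.CoverP Cfsg.Agent.Lib.Schur.Fi24Model
open Cfsg.Agent.Lib.PermComp.Kron
open Cfsg.Agent.Lib.TC.G.Fi24 (K Rel rels)
open Cfsg.Agent.Lib.TC.D.Fi24a.Tab (pt)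

theorem hcheck : ∀ x < pt.n, chkAtT pt K.k tb RJ x = true := by
  intro x hx
  refine forall_of_chunks_rem (c := 1534) (s := 200) (r := 136) (by norm_num) ?_ ckrem
    (by decide) x hx
  intro i hi
  interval_cases i
  · exact ck0
  · exact ck1
  · exact ck2
  · exact ck3
  · exact ck4
  · exact ck5
  · exact ck6
  · exact ck7
  · exact ck8
  · exact ck9
  · exact ck10
  · exact ck11
  · exact ck12
  · exact ck13
  · exact ck14
  · exact ck15
  · exact ck16
  · exact ck17
  · exact ck18
  · exact ck19
  · exact ck20
  · exact ck21
  · exact ck22
  · exact ck23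
  · exact ck24
  · exact ck25
  · exact ck26
  · exact ck27
  · exact ck28
  · exact ck29
  · exact ck30
  · exact ck31
  · exact ck32
  · exact ck33
  · exact ck34
  · exact ck35
  · exact ck36
  · exact ck37
  · exact ck38
  · exact ck39
  · exact ck40
  · exact ck41
  · exact ck42
  · exact ck43
  · exact ck44
  · exact ck45
  · exact ck46
  · exact ck47
  · exact ck48
  · exact ck49
  · exact ck50
  · exact ck51
  · exact ck52
  · exact ck53
  · exact ck54
  · exact ck55
  · exact ck56
  · exact ck57
  · exact ck58
  · exact ck59
  · exact ck60
  · exact ck61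
  · exact ck62
  · exact ck63
  · exact ck64
  · exact ck65
  · exact ck66
  · exact ck67
  · exact ck68
  · exact ck69
  · exact ck70
  · exact ck71
  · exact ck72
  · exact ck73
  · exact ck74
  · exact ck75
  · exact ck76
  · exact ck77
  · exact ck78
  · exact ck79
  · exact ck80
  · exact ck81
  · exact ck82
  · exact ck83
  · exact ck84
  · exact ck85
  · exact ck86
  · exact ck87
  · exact ck88
  · exact ck89
  · exact ck90
  · exact ck91
  · exact ck92
  · exact ck93
  · exact ck94
  · exact ck95
  · exact ck96
  · exact ck97
  · exact ck98
  · exact ck99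
  · exact ck100
  · exact ck101
  · exact ck102
  · exact ck103
  · exact ck104
  · exact ck105
  · exact ck106
  · exact ck107
  · exact ck108
  · exact ck109
  · exact ck110
  · exact ck111
  · exact ck112
  · exact ck113
  · exact ck114
  · exact ck115
  · exact ck116
  · exact ck117
  · exact ck118
  · exact ck119
  · exact ck120
  · exact ck121
  · exact ck122
  · exact ck123
  · exact ck124
  · exact ck125
  · exact ck126
  · exact ck127
  · exact ck128
  · exact ck129
  · exact ck130
  · exact ck131
  · exact ck132
  · exact ck133
  · exact ck134
  · exact ck135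
  · exact ck136
  · exact ck137
  · exact ck138
  · exact ck139
  · exact ck140
  · exact ck141
  · exact ck142
  · exact ck143
  · exact ck144
  · exact ck145
  · exact ck146
  · exact ck147
  · exact ck148
  · exact ck149
  · exact ck150
  · exact ck151
  · exact ck152
  · exact ck153
  · exact ck154
  · exact ck155
  · exact ck156
  · exact ck157
  · exact ck158
  · exact ck159
  · exact ck160
  · exact ck161
  · exact ck162
  · exact ck163
  · exact ck164
  · exact ck165
  · exact ck166
  · exact ck167
  · exact ck168
  · exact ck169
  · exact ck170
  · exact ck171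
  · exact ck172
  · exact ck173
  · exact ck174
  · exact ck175
  · exact ck176
  · exact ck177
  · exact ck178
  · exact ck179
  · exact ck180
  · exact ck181
  · exact ck182
  · exact ck183
  · exact ck184
  · exact ck185
  · exact ck186
  · exact ck187
  · exact ck188
  · exact ck189
  · exact ck190
  · exact ck191
  · exact ck192
  · exact ck193
  · exact ck194
  · exact ck195
  · exact ck196
  · exact ck197
  · exact ck198
  · exact ck199
  · exact ck200
  · exact ck201
  · exact ck202
  · exact ck203
  · exact ck204
  · exact ck205
  · exact ck206
  · exact ck207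
  · exact ck208
  · exact ck209
  · exact ck210
  · exact ck211
  · exact ck212
  · exact ck213
  · exact ck214
  · exact ck215
  · exact ck216
  · exact ck217
  · exact ck218
  · exact ck219
  · exact ck220
  · exact ck221
  · exact ck222
  · exact ck223
  · exact ck224
  · exact ck225
  · exact ck226
  · exact ck227
  · exact ck228
  · exact ck229
  · exact ck230
  · exact ck231
  · exact ck232
  · exact ck233
  · exact ck234
  · exact ck235
  · exact ck236
  · exact ck237
  · exact ck238
  · exact ck239
  · exact ck240
  · exact ck241
  · exact ck242
  · exact ck243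
  · exact ck244
  · exact ck245
  · exact ck246
  · exact ck247
  · exact ck248
  · exact ck249
  · exact ck250
  · exact ck251
  · exact ck252
  · exact ck253
  · exact ck254
  · exact ck255
  · exact ck256
  · exact ck257
  · exact ck258
  · exact ck259
  · exact ck260
  · exact ck261
  · exact ck262
  · exact ck263
  · exact ck264
  · exact ck265
  · exact ck266
  · exact ck267
  · exact ck268
  · exact ck269
  · exact ck270
  · exact ck271
  · exact ck272
  · exact ck273
  · exact ck274
  · exact ck275
  · exact ck276
  · exact ck277
  · exact ck278
  · exact ck279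
  · exact ck280
  · exact ck281
  · exact ck282
  · exact ck283
  · exact ck284
  · exact ck285
  · exact ck286
  · exact ck287
  · exact ck288
  · exact ck289
  · exact ck290
  · exact ck291
  · exact ck292
  · exact ck293
  · exact ck294
  · exact ck295
  · exact ck296
  · exact ck297
  · exact ck298
  · exact ck299
  · exact ck300
  · exact ck301
  · exact ck302
  · exact ck303
  · exact ck304
  · exact ck305
  · exact ck306
  · exact ck307
  · exact ck308
  · exact ck309
  · exact ck310
  · exact ck311
  · exact ck312
  · exact ck313
  · exact ck314
  · exact ck315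
  · exact ck316
  · exact ck317
  · exact ck318
  · exact ck319
  · exact ck320
  · exact ck321
  · exact ck322
  · exact ck323
  · exact ck324
  · exact ck325
  · exact ck326
  · exact ck327
  · exact ck328
  · exact ck329
  · exact ck330
  · exact ck331
  · exact ck332
  · exact ck333
  · exact ck334
  · exact ck335
  · exact ck336
  · exact ck337
  · exact ck338
  · exact ck339
  · exact ck340
  · exact ck341
  · exact ck342
  · exact ck343
  · exact ck344
  · exact ck345
  · exact ck346
  · exact ck347
  · exact ck348
  · exact ck349
  · exact ck350
  · exact ck351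
  · exact ck352
  · exact ck353
  · exact ck354
  · exact ck355
  · exact ck356
  · exact ck357
  · exact ck358
  · exact ck359
  · exact ck360
  · exact ck361
  · exact ck362
  · exact ck363
  · exact ck364
  · exact ck365
  · exact ck366
  · exact ck367
  · exact ck368
  · exact ck369
  · exact ck370
  · exact ck371
  · exact ck372
  · exact ck373
  · exact ck374
  · exact ck375
  · exact ck376
  · exact ck377
  · exact ck378
  · exact ck379
  · exact ck380
  · exact ck381
  · exact ck382
  · exact ck383
  · exact ck384
  · exact ck385
  · exact ck386
  · exact ck387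
  · exact ck388
  · exact ck389
  · exact ck390
  · exact ck391
  · exact ck392
  · exact ck393
  · exact ck394
  · exact ck395
  · exact ck396
  · exact ck397
  · exact ck398
  · exact ck399
  · exact ck400
  · exact ck401
  · exact ck402
  · exact ck403
  · exact ck404
  · exact ck405
  · exact ck406
  · exact ck407
  · exact ck408
  · exact ck409
  · exact ck410
  · exact ck411
  · exact ck412
  · exact ck413
  · exact ck414
  · exact ck415
  · exact ck416
  · exact ck417
  · exact ck418
  · exact ck419
  · exact ck420
  · exact ck421
  · exact ck422
  · exact ck423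
  · exact ck424
  · exact ck425
  · exact ck426
  · exact ck427
  · exact ck428
  · exact ck429
  · exact ck430
  · exact ck431
  · exact ck432
  · exact ck433
  · exact ck434
  · exact ck435
  · exact ck436
  · exact ck437
  · exact ck438
  · exact ck439
  · exact ck440
  · exact ck441
  · exact ck442
  · exact ck443
  · exact ck444
  · exact ck445
  · exact ck446
  · exact ck447
  · exact ck448
  · exact ck449
  · exact ck450
  · exact ck451
  · exact ck452
  · exact ck453
  · exact ck454
  · exact ck455
  · exact ck456
  · exact ck457
  · exact ck458
  · exact ck459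
  · exact ck460
  · exact ck461
  · exact ck462
  · exact ck463
  · exact ck464
  · exact ck465
  · exact ck466
  · exact ck467
  · exact ck468
  · exact ck469
  · exact ck470
  · exact ck471
  · exact ck472
  · exact ck473
  · exact ck474
  · exact ck475
  · exact ck476
  · exact ck477
  · exact ck478
  · exact ck479
  · exact ck480
  · exact ck481
  · exact ck482
  · exact ck483
  · exact ck484
  · exact ck485
  · exact ck486
  · exact ck487
  · exact ck488
  · exact ck489
  · exact ck490
  · exact ck491
  · exact ck492
  · exact ck493
  · exact ck494
  · exact ck495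
  · exact ck496
  · exact ck497
  · exact ck498
  · exact ck499
  · exact ck500
  · exact ck501
  · exact ck502
  · exact ck503
  · exact ck504
  · exact ck505
  · exact ck506
  · exact ck507
  · exact ck508
  · exact ck509
  · exact ck510
  · exact ck511
  · exact ck512
  · exact ck513
  · exact ck514
  · exact ck515
  · exact ck516
  · exact ck517
  · exact ck518
  · exact ck519
  · exact ck520
  · exact ck521
  · exact ck522
  · exact ck523
  · exact ck524
  · exact ck525
  · exact ck526
  · exact ck527
  · exact ck528
  · exact ck529
  · exact ck530
  · exact ck531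
  · exact ck532
  · exact ck533
  · exact ck534
  · exact ck535
  · exact ck536
  · exact ck537
  · exact ck538
  · exact ck539
  · exact ck540
  · exact ck541
  · exact ck542
  · exact ck543
  · exact ck544
  · exact ck545
  · exact ck546
  · exact ck547
  · exact ck548
  · exact ck549
  · exact ck550
  · exact ck551
  · exact ck552
  · exact ck553
  · exact ck554
  · exact ck555
  · exact ck556
  · exact ck557
  · exact ck558
  · exact ck559
  · exact ck560
  · exact ck561
  · exact ck562
  · exact ck563
  · exact ck564
  · exact ck565
  · exact ck566
  · exact ck567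
  · exact ck568
  · exact ck569
  · exact ck570
  · exact ck571
  · exact ck572
  · exact ck573
  · exact ck574
  · exact ck575
  · exact ck576
  · exact ck577
  · exact ck578
  · exact ck579
  · exact ck580
  · exact ck581
  · exact ck582
  · exact ck583
  · exact ck584
  · exact ck585
  · exact ck586
  · exact ck587
  · exact ck588
  · exact ck589
  · exact ck590
  · exact ck591
  · exact ck592
  · exact ck593
  · exact ck594
  · exact ck595
  · exact ck596
  · exact ck597
  · exact ck598
  · exact ck599
  · exact ck600
  · exact ck601
  · exact ck602
  · exact ck603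
  · exact ck604
  · exact ck605
  · exact ck606
  · exact ck607
  · exact ck608
  · exact ck609
  · exact ck610
  · exact ck611
  · exact ck612
  · exact ck613
  · exact ck614
  · exact ck615
  · exact ck616
  · exact ck617
  · exact ck618
  · exact ck619
  · exact ck620
  · exact ck621
  · exact ck622
  · exact ck623
  · exact ck624
  · exact ck625
  · exact ck626
  · exact ck627
  · exact ck628
  · exact ck629
  · exact ck630
  · exact ck631
  · exact ck632
  · exact ck633
  · exact ck634
  · exact ck635
  · exact ck636
  · exact ck637
  · exact ck638
  · exact ck639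
  · exact ck640
  · exact ck641
  · exact ck642
  · exact ck643
  · exact ck644
  · exact ck645
  · exact ck646
  · exact ck647
  · exact ck648
  · exact ck649
  · exact ck650
  · exact ck651
  · exact ck652
  · exact ck653
  · exact ck654
  · exact ck655
  · exact ck656
  · exact ck657
  · exact ck658
  · exact ck659
  · exact ck660
  · exact ck661
  · exact ck662
  · exact ck663
  · exact ck664
  · exact ck665
  · exact ck666
  · exact ck667
  · exact ck668
  · exact ck669
  · exact ck670
  · exact ck671
  · exact ck672
  · exact ck673
  · exact ck674
  · exact ck675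
  · exact ck676
  · exact ck677
  · exact ck678
  · exact ck679
  · exact ck680
  · exact ck681
  · exact ck682
  · exact ck683
  · exact ck684
  · exact ck685
  · exact ck686
  · exact ck687
  · exact ck688
  · exact ck689
  · exact ck690
  · exact ck691
  · exact ck692
  · exact ck693
  · exact ck694
  · exact ck695
  · exact ck696
  · exact ck697
  · exact ck698
  · exact ck699
  · exact ck700
  · exact ck701
  · exact ck702
  · exact ck703
  · exact ck704
  · exact ck705
  · exact ck706
  · exact ck707
  · exact ck708
  · exact ck709
  · exact ck710
  · exact ck711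
  · exact ck712
  · exact ck713
  · exact ck714
  · exact ck715
  · exact ck716
  · exact ck717
  · exact ck718
  · exact ck719
  · exact ck720
  · exact ck721
  · exact ck722
  · exact ck723
  · exact ck724
  · exact ck725
  · exact ck726
  · exact ck727
  · exact ck728
  · exact ck729
  · exact ck730
  · exact ck731
  · exact ck732
  · exact ck733
  · exact ck734
  · exact ck735
  · exact ck736
  · exact ck737
  · exact ck738
  · exact ck739
  · exact ck740
  · exact ck741
  · exact ck742
  · exact ck743
  · exact ck744
  · exact ck745
  · exact ck746
  · exact ck747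
  · exact ck748
  · exact ck749
  · exact ck750
  · exact ck751
  · exact ck752
  · exact ck753
  · exact ck754
  · exact ck755
  · exact ck756
  · exact ck757
  · exact ck758
  · exact ck759
  · exact ck760
  · exact ck761
  · exact ck762
  · exact ck763
  · exact ck764
  · exact ck765
  · exact ck766
  · exact ck767
  · exact ck768
  · exact ck769
  · exact ck770
  · exact ck771
  · exact ck772
  · exact ck773
  · exact ck774
  · exact ck775
  · exact ck776
  · exact ck777
  · exact ck778
  · exact ck779
  · exact ck780
  · exact ck781
  · exact ck782
  · exact ck783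
  · exact ck784
  · exact ck785
  · exact ck786
  · exact ck787
  · exact ck788
  · exact ck789
  · exact ck790
  · exact ck791
  · exact ck792
  · exact ck793
  · exact ck794
  · exact ck795
  · exact ck796
  · exact ck797
  · exact ck798
  · exact ck799
  · exact ck800
  · exact ck801
  · exact ck802
  · exact ck803
  · exact ck804
  · exact ck805
  · exact ck806
  · exact ck807
  · exact ck808
  · exact ck809
  · exact ck810
  · exact ck811
  · exact ck812
  · exact ck813
  · exact ck814
  · exact ck815
  · exact ck816
  · exact ck817
  · exact ck818
  · exact ck819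
  · exact ck820
  · exact ck821
  · exact ck822
  · exact ck823
  · exact ck824
  · exact ck825
  · exact ck826
  · exact ck827
  · exact ck828
  · exact ck829
  · exact ck830
  · exact ck831
  · exact ck832
  · exact ck833
  · exact ck834
  · exact ck835
  · exact ck836
  · exact ck837
  · exact ck838
  · exact ck839
  · exact ck840
  · exact ck841
  · exact ck842
  · exact ck843
  · exact ck844
  · exact ck845
  · exact ck846
  · exact ck847
  · exact ck848
  · exact ck849
  · exact ck850
  · exact ck851
  · exact ck852
  · exact ck853
  · exact ck854
  · exact ck855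
  · exact ck856
  · exact ck857
  · exact ck858
  · exact ck859
  · exact ck860
  · exact ck861
  · exact ck862
  · exact ck863
  · exact ck864
  · exact ck865
  · exact ck866
  · exact ck867
  · exact ck868
  · exact ck869
  · exact ck870
  · exact ck871
  · exact ck872
  · exact ck873
  · exact ck874
  · exact ck875
  · exact ck876
  · exact ck877
  · exact ck878
  · exact ck879
  · exact ck880
  · exact ck881
  · exact ck882
  · exact ck883
  · exact ck884
  · exact ck885
  · exact ck886
  · exact ck887
  · exact ck888
  · exact ck889
  · exact ck890
  · exact ck891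
  · exact ck892
  · exact ck893
  · exact ck894
  · exact ck895
  · exact ck896
  · exact ck897
  · exact ck898
  · exact ck899
  · exact ck900
  · exact ck901
  · exact ck902
  · exact ck903
  · exact ck904
  · exact ck905
  · exact ck906
  · exact ck907
  · exact ck908
  · exact ck909
  · exact ck910
  · exact ck911
  · exact ck912
  · exact ck913
  · exact ck914
  · exact ck915
  · exact ck916
  · exact ck917
  · exact ck918
  · exact ck919
  · exact ck920
  · exact ck921
  · exact ck922
  · exact ck923
  · exact ck924
  · exact ck925
  · exact ck926
  · exact ck927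
  · exact ck928
  · exact ck929
  · exact ck930
  · exact ck931
  · exact ck932
  · exact ck933
  · exact ck934
  · exact ck935
  · exact ck936
  · exact ck937
  · exact ck938
  · exact ck939
  · exact ck940
  · exact ck941
  · exact ck942
  · exact ck943
  · exact ck944
  · exact ck945
  · exact ck946
  · exact ck947
  · exact ck948
  · exact ck949
  · exact ck950
  · exact ck951
  · exact ck952
  · exact ck953
  · exact ck954
  · exact ck955
  · exact ck956
  · exact ck957
  · exact ck958
  · exact ck959
  · exact ck960
  · exact ck961
  · exact ck962
  · exact ck963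
  · exact ck964
  · exact ck965
  · exact ck966
  · exact ck967
  · exact ck968
  · exact ck969
  · exact ck970
  · exact ck971
  · exact ck972
  · exact ck973
  · exact ck974
  · exact ck975
  · exact ck976
  · exact ck977
  · exact ck978
  · exact ck979
  · exact ck980
  · exact ck981
  · exact ck982
  · exact ck983
  · exact ck984
  · exact ck985
  · exact ck986
  · exact ck987
  · exact ck988
  · exact ck989
  · exact ck990
  · exact ck991
  · exact ck992
  · exact ck993
  · exact ck994
  · exact ck995
  · exact ck996
  · exact ck997
  · exact ck998
  · exact ck999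
  · exact ck1000
  · exact ck1001
  · exact ck1002
  · exact ck1003
  · exact ck1004
  · exact ck1005
  · exact ck1006
  · exact ck1007
  · exact ck1008
  · exact ck1009
  · exact ck1010
  · exact ck1011
  · exact ck1012
  · exact ck1013
  · exact ck1014
  · exact ck1015
  · exact ck1016
  · exact ck1017
  · exact ck1018
  · exact ck1019
  · exact ck1020
  · exact ck1021
  · exact ck1022
  · exact ck1023
  · exact ck1024
  · exact ck1025
  · exact ck1026
  · exact ck1027
  · exact ck1028
  · exact ck1029
  · exact ck1030
  · exact ck1031
  · exact ck1032
  · exact ck1033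
  · exact ck1034
  · exact ck1035
  · exact ck1036
  · exact ck1037
  · exact ck1038
  · exact ck1039
  · exact ck1040
  · exact ck1041
  · exact ck1042
  · exact ck1043
  · exact ck1044
  · exact ck1045
  · exact ck1046
  · exact ck1047
  · exact ck1048
  · exact ck1049
  · exact ck1050
  · exact ck1051
  · exact ck1052
  · exact ck1053
  · exact ck1054
  · exact ck1055
  · exact ck1056
  · exact ck1057
  · exact ck1058
  · exact ck1059
  · exact ck1060
  · exact ck1061
  · exact ck1062
  · exact ck1063
  · exact ck1064
  · exact ck1065
  · exact ck1066
  · exact ck1067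
  · exact ck1068
  · exact ck1069
  · exact ck1070
  · exact ck1071
  · exact ck1072
  · exact ck1073
  · exact ck1074
  · exact ck1075
  · exact ck1076
  · exact ck1077
  · exact ck1078
  · exact ck1079
  · exact ck1080
  · exact ck1081
  · exact ck1082
  · exact ck1083
  · exact ck1084
  · exact ck1085
  · exact ck1086
  · exact ck1087
  · exact ck1088
  · exact ck1089
  · exact ck1090
  · exact ck1091
  · exact ck1092
  · exact ck1093
  · exact ck1094
  · exact ck1095
  · exact ck1096
  · exact ck1097
  · exact ck1098
  · exact ck1099
  · exact ck1100
  · exact ck1101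
  · exact ck1102
  · exact ck1103
  · exact ck1104
  · exact ck1105
  · exact ck1106
  · exact ck1107
  · exact ck1108
  · exact ck1109
  · exact ck1110
  · exact ck1111
  · exact ck1112
  · exact ck1113
  · exact ck1114
  · exact ck1115
  · exact ck1116
  · exact ck1117
  · exact ck1118
  · exact ck1119
  · exact ck1120
  · exact ck1121
  · exact ck1122
  · exact ck1123
  · exact ck1124
  · exact ck1125
  · exact ck1126
  · exact ck1127
  · exact ck1128
  · exact ck1129
  · exact ck1130
  · exact ck1131
  · exact ck1132
  · exact ck1133
  · exact ck1134
  · exact ck1135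
  · exact ck1136
  · exact ck1137
  · exact ck1138
  · exact ck1139
  · exact ck1140
  · exact ck1141
  · exact ck1142
  · exact ck1143
  · exact ck1144
  · exact ck1145
  · exact ck1146
  · exact ck1147
  · exact ck1148
  · exact ck1149
  · exact ck1150
  · exact ck1151
  · exact ck1152
  · exact ck1153
  · exact ck1154
  · exact ck1155
  · exact ck1156
  · exact ck1157
  · exact ck1158
  · exact ck1159
  · exact ck1160
  · exact ck1161
  · exact ck1162
  · exact ck1163
  · exact ck1164
  · exact ck1165
  · exact ck1166
  · exact ck1167
  · exact ck1168
  · exact ck1169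
  · exact ck1170
  · exact ck1171
  · exact ck1172
  · exact ck1173
  · exact ck1174
  · exact ck1175
  · exact ck1176
  · exact ck1177
  · exact ck1178
  · exact ck1179
  · exact ck1180
  · exact ck1181
  · exact ck1182
  · exact ck1183
  · exact ck1184
  · exact ck1185
  · exact ck1186
  · exact ck1187
  · exact ck1188
  · exact ck1189
  · exact ck1190
  · exact ck1191
  · exact ck1192
  · exact ck1193
  · exact ck1194
  · exact ck1195
  · exact ck1196
  · exact ck1197
  · exact ck1198
  · exact ck1199
  · exact ck1200
  · exact ck1201
  · exact ck1202
  · exact ck1203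
  · exact ck1204
  · exact ck1205
  · exact ck1206
  · exact ck1207
  · exact ck1208
  · exact ck1209
  · exact ck1210
  · exact ck1211
  · exact ck1212
  · exact ck1213
  · exact ck1214
  · exact ck1215
  · exact ck1216
  · exact ck1217
  · exact ck1218
  · exact ck1219
  · exact ck1220
  · exact ck1221
  · exact ck1222
  · exact ck1223
  · exact ck1224
  · exact ck1225
  · exact ck1226
  · exact ck1227
  · exact ck1228
  · exact ck1229
  · exact ck1230
  · exact ck1231
  · exact ck1232
  · exact ck1233
  · exact ck1234
  · exact ck1235
  · exact ck1236
  · exact ck1237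
  · exact ck1238
  · exact ck1239
  · exact ck1240
  · exact ck1241
  · exact ck1242
  · exact ck1243
  · exact ck1244
  · exact ck1245
  · exact ck1246
  · exact ck1247
  · exact ck1248
  · exact ck1249
  · exact ck1250
  · exact ck1251
  · exact ck1252
  · exact ck1253
  · exact ck1254
  · exact ck1255
  · exact ck1256
  · exact ck1257
  · exact ck1258
  · exact ck1259
  · exact ck1260
  · exact ck1261
  · exact ck1262
  · exact ck1263
  · exact ck1264
  · exact ck1265
  · exact ck1266
  · exact ck1267
  · exact ck1268
  · exact ck1269
  · exact ck1270
  · exact ck1271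
  · exact ck1272
  · exact ck1273
  · exact ck1274
  · exact ck1275
  · exact ck1276
  · exact ck1277
  · exact ck1278
  · exact ck1279
  · exact ck1280
  · exact ck1281
  · exact ck1282
  · exact ck1283
  · exact ck1284
  · exact ck1285
  · exact ck1286
  · exact ck1287
  · exact ck1288
  · exact ck1289
  · exact ck1290
  · exact ck1291
  · exact ck1292
  · exact ck1293
  · exact ck1294
  · exact ck1295
  · exact ck1296
  · exact ck1297
  · exact ck1298
  · exact ck1299
  · exact ck1300
  · exact ck1301
  · exact ck1302
  · exact ck1303
  · exact ck1304
  · exact ck1305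
  · exact ck1306
  · exact ck1307
  · exact ck1308
  · exact ck1309
  · exact ck1310
  · exact ck1311
  · exact ck1312
  · exact ck1313
  · exact ck1314
  · exact ck1315
  · exact ck1316
  · exact ck1317
  · exact ck1318
  · exact ck1319
  · exact ck1320
  · exact ck1321
  · exact ck1322
  · exact ck1323
  · exact ck1324
  · exact ck1325
  · exact ck1326
  · exact ck1327
  · exact ck1328
  · exact ck1329
  · exact ck1330
  · exact ck1331
  · exact ck1332
  · exact ck1333
  · exact ck1334
  · exact ck1335
  · exact ck1336
  · exact ck1337
  · exact ck1338
  · exact ck1339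
  · exact ck1340
  · exact ck1341
  · exact ck1342
  · exact ck1343
  · exact ck1344
  · exact ck1345
  · exact ck1346
  · exact ck1347
  · exact ck1348
  · exact ck1349
  · exact ck1350
  · exact ck1351
  · exact ck1352
  · exact ck1353
  · exact ck1354
  · exact ck1355
  · exact ck1356
  · exact ck1357
  · exact ck1358
  · exact ck1359
  · exact ck1360
  · exact ck1361
  · exact ck1362
  · exact ck1363
  · exact ck1364
  · exact ck1365
  · exact ck1366
  · exact ck1367
  · exact ck1368
  · exact ck1369
  · exact ck1370
  · exact ck1371
  · exact ck1372
  · exact ck1373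
  · exact ck1374
  · exact ck1375
  · exact ck1376
  · exact ck1377
  · exact ck1378
  · exact ck1379
  · exact ck1380
  · exact ck1381
  · exact ck1382
  · exact ck1383
  · exact ck1384
  · exact ck1385
  · exact ck1386
  · exact ck1387
  · exact ck1388
  · exact ck1389
  · exact ck1390
  · exact ck1391
  · exact ck1392
  · exact ck1393
  · exact ck1394
  · exact ck1395
  · exact ck1396
  · exact ck1397
  · exact ck1398
  · exact ck1399
  · exact ck1400
  · exact ck1401
  · exact ck1402
  · exact ck1403
  · exact ck1404
  · exact ck1405
  · exact ck1406
  · exact ck1407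
  · exact ck1408
  · exact ck1409
  · exact ck1410
  · exact ck1411
  · exact ck1412
  · exact ck1413
  · exact ck1414
  · exact ck1415
  · exact ck1416
  · exact ck1417
  · exact ck1418
  · exact ck1419
  · exact ck1420
  · exact ck1421
  · exact ck1422
  · exact ck1423
  · exact ck1424
  · exact ck1425
  · exact ck1426
  · exact ck1427
  · exact ck1428
  · exact ck1429
  · exact ck1430
  · exact ck1431
  · exact ck1432
  · exact ck1433
  · exact ck1434
  · exact ck1435
  · exact ck1436
  · exact ck1437
  · exact ck1438
  · exact ck1439
  · exact ck1440
  · exact ck1441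
  · exact ck1442
  · exact ck1443
  · exact ck1444
  · exact ck1445
  · exact ck1446
  · exact ck1447
  · exact ck1448
  · exact ck1449
  · exact ck1450
  · exact ck1451
  · exact ck1452
  · exact ck1453
  · exact ck1454
  · exact ck1455
  · exact ck1456
  · exact ck1457
  · exact ck1458
  · exact ck1459
  · exact ck1460
  · exact ck1461
  · exact ck1462
  · exact ck1463
  · exact ck1464
  · exact ck1465
  · exact ck1466
  · exact ck1467
  · exact ck1468
  · exact ck1469
  · exact ck1470
  · exact ck1471
  · exact ck1472
  · exact ck1473
  · exact ck1474
  · exact ck1475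
  · exact ck1476
  · exact ck1477
  · exact ck1478
  · exact ck1479
  · exact ck1480
  · exact ck1481
  · exact ck1482
  · exact ck1483
  · exact ck1484
  · exact ck1485
  · exact ck1486
  · exact ck1487
  · exact ck1488
  · exact ck1489
  · exact ck1490
  · exact ck1491
  · exact ck1492
  · exact ck1493
  · exact ck1494
  · exact ck1495
  · exact ck1496
  · exact ck1497
  · exact ck1498
  · exact ck1499
  · exact ck1500
  · exact ck1501
  · exact ck1502
  · exact ck1503
  · exact ck1504
  · exact ck1505
  · exact ck1506
  · exact ck1507
  · exact ck1508
  · exact ck1509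
  · exact ck1510
  · exact ck1511
  · exact ck1512
  · exact ck1513
  · exact ck1514
  · exact ck1515
  · exact ck1516
  · exact ck1517
  · exact ck1518
  · exact ck1519
  · exact ck1520
  · exact ck1521
  · exact ck1522
  · exact ck1523
  · exact ck1524
  · exact ck1525
  · exact ck1526
  · exact ck1527
  · exact ck1528
  · exact ck1529
  · exact ck1530
  · exact ck1531
  · exact ck1532
  · exact ck1533

theorem hna : ¬ ∀ a b : commutator (PresentedGroup Rel), a * b = b * a := by
  have h0 : Nat.card (commutator (PresentedGroup Rel)) ≠ 0 := by rw [card_comm]; norm_num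
  have : Finite (commutator (PresentedGroup Rel)) := Nat.finite_of_card_ne_zero h0
  have : IsSimpleGroup (commutator (PresentedGroup Rel)) := Cfsg.Agent.Lib.TC.D.Fi24Chain.Pres.main.1
  intro hc
  obtain ⟨a, b, hab⟩ := Cfsg.Agent.Lib.TC.F24.exists_ne_of_simple (A := commutator (PresentedGroup Rel)) (by
    rw [card_comm]
    intro hp
    have h3 := (Nat.prime_dvd_prime_iff_eq Nat.prime_two hp).1 (by norm_num)
    norm_num at h3)
  exact hab (hc a b)

/-- The stem extension. -/
theorem exists_stem : ∃ (Γ : Type) (_ : Group Γ) (_ : Finite Γ) (σ : Γ →* commutator (PresentedGroup Rel)),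
    IsStemExtension σ ∧ Nat.card σ.ker = 3 := by
  obtain ⟨φ, M⟩ := model
  refine exists_stem_of_tables_tw (P := pt) φ Cfsg.Agent.Lib.TC.G.Fi24.valid Cfsg.Agent.Lib.TC.G.Fi24.hR
    Cfsg.Agent.Lib.TC.D.Fi24Chain.Pres.main.1 hna Cfsg.Agent.Lib.TC.D.Fi24Chain.Main.s0 Cfsg.Agent.Lib.TC.D.Fi24Chain.Main.hs0 hsk M.hinj ?_ (by decide) (by decide) tb RJ rowsC hcheck (by decide +kernel)
    (fun l hl => rj_of_any ((by decide +kernel : ∀ l ∈ rels, RJ.any (fun t => t.1 == l) = true) l hl))
    (fun c hc => rj_of_any ((by decide +kernel : ∀ c < K.k, RJ.any (fun t => t.1 == [c, K.inv c]) = true) c hc))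
    (by decide +kernel) (by decide +kernel) (by decide +kernel) (by decide +kernel) (by decide +kernel)
    (by decide +kernel)
  intro c hc i
  have h := M.hval [c] (by simpa using hc) i
  rw [Cfsg.Agent.Lib.TC.Core.prodA_cons, Cfsg.Agent.Lib.TC.Core.prodA_nil, one_mul] at h
  exact h

end Cfsg.Agent.Lib.Schur.Cover.Fi24T
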