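import Cfsg.Agent.Lib.Schur.CoverG
import Cfsg.Agent.Lib.PermComp.Mathieu.Bridge
import Cfsg.Agent.Lib.Golay.OutGroups

/-!
# A stem extension of `M12` with kernel of order 2

The double cover acts monomially on the extended ternary Golay code, i.e. on 24 signed points.
-/

set_option autoImplicit false

namespace Cfsg.Agent.Lib.Schur.Cover.M12k2

open Cfsg Cfsg.Agent.Lib.Schur.CoverCert Cfsg.Agent.Lib.Schur.CoverG
open Cfsg.Agent.Lib.PermComp Cfsg.Agent.Lib.PermComp.G24 Cfsg.Agent.Lib.PermComp.Mathieu.Bridge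
open Cfsg.Agent.Lib.Golay.Perm Cfsg.Agent.Lib.Golay.OutGroups Cfsg.Agent.Lib.Golay.M12

def c1_n : Nat := nat_lit 48
def c1_w : Nat := nat_lit 6
def c1_mask : Nat := nat_lit 63
def c1_L : Nat := nat_lit 288
def c1_maskL : Nat := nat_lit 0xffffffffffffffffffffffffffffffffffffffffffffffffffffffffffffffffffffffff
def c1_idc : Nat := nat_lit 0xbeeb6caeaa689e69648e28607de75c6da6585d65544d24503ce34c2ca2481c61440c2040
def c1_T : List Nat := [nat_lit 0xb1f9e3a65ade8af85bb6e7187609a4a196aa0d544611330b5813883c915240701728d094, nat_lit 0xa66aed8e0b2a7e29289ef6deba175a62565c2881d13cb5423120505944c50d724e006344]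
def c1_prog : List (Nat × Nat × Nat) := [(nat_lit 1, nat_lit 1, nat_lit 0), (nat_lit 1, nat_lit 1, nat_lit 0), (nat_lit 0, nat_lit 3, nat_lit 2), (nat_lit 0, nat_lit 0, nat_lit 4), (nat_lit 0, nat_lit 0, nat_lit 4), (nat_lit 0, nat_lit 0, nat_lit 5), (nat_lit 0, nat_lit 4, nat_lit 4), (nat_lit 0, nat_lit 0, nat_lit 1), (nat_lit 0, nat_lit 8, nat_lit 9), (nat_lit 0, nat_lit 0, nat_lit 10), (nat_lit 0, nat_lit 0, nat_lit 10), (nat_lit 0, nat_lit 0, nat_lit 12), (nat_lit 0, nat_lit 0, nat_lit 12), (nat_lit 0, nat_lit 0, nat_lit 13), (nat_lit 0, nat_lit 0, nat_lit 15), (nat_lit 0, nat_lit 0, nat_lit 15), (nat_lit 0, nat_lit 0, nat_lit 16), (nat_lit 0, nat_lit 10, nat_lit 16), (nat_lit 0, nat_lit 0, nat_lit 17), (nat_lit 0, nat_lit 0, nat_lit 2), (nat_lit 1, nat_lit 12, nat_lit 0), (nat_lit 1, nat_lit 1, nat_lit 0), (nat_lit 0, nat_lit 14, nat_lit 2), (nat_lit 0, nat_lit 0, nat_lit 15), (nat_lit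 0, nat_lit 0, nat_lit 16), (nat_lit 0, nat_lit 0, nat_lit 17), (nat_lit 0, nat_lit 4, nat_lit 4), (nat_lit 0, nat_lit 0, nat_lit 6), (nat_lit 0, nat_lit 0, nat_lit 2), (nat_lit 0, nat_lit 21, nat_lit 21), (nat_lit 0, nat_lit 0, nat_lit 10), (nat_lit 0, nat_lit 0, nat_lit 23), (nat_lit 0, nat_lit 0, nat_lit 24), (nat_lit 0, nat_lit 0, nat_lit 13), (nat_lit 0, nat_lit 0, nat_lit 14), (nat_lit 0, nat_lit 0, nat_lit 27), (nat_lit 0, nat_lit 0, nat_lit 16), (nat_lit 0, nat_lit 0, nat_lit 29), (nat_lit 0, nat_lit 17, nat_lit 16), (nat_lit 0, nat_lit 0, nat_lit 18), (nat_lit 0, nat_lit 0, nat_lit 19), (nat_lit 0, nat_lit 0, nat_lit 20), (nat_lit 0, nat_lit 0, nat_lit 20), (nat_lit 0, nat_lit 0, nat_lit 5), (nat_lit 1, nat_lit 15, nat_lit 0), (nat_lit 1, nat_lit 1, nat_lit 0), (nat_lit 0, nat_lit 17, nat_lit 2), (nat_lit 0, nat_lit 0, nat_lit 18), (nat_lit 0, nat_lit 0, nat_lit 4), (nat_lit 0,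 nat_lit 0, nat_lit 20), (nat_lit 0, nat_lit 0, nat_lit 21), (nat_lit 0, nat_lit 0, nat_lit 7), (nat_lit 0, nat_lit 0, nat_lit 23), (nat_lit 0, nat_lit 0, nat_lit 9), (nat_lit 0, nat_lit 0, nat_lit 10), (nat_lit 0, nat_lit 0, nat_lit 26), (nat_lit 0, nat_lit 11, nat_lit 10), (nat_lit 0, nat_lit 0, nat_lit 11), (nat_lit 0, nat_lit 0, nat_lit 12), (nat_lit 0, nat_lit 0, nat_lit 3), (nat_lit 0, nat_lit 16, nat_lit 16), (nat_lit 0, nat_lit 0, nat_lit 17), (nat_lit 0, nat_lit 0, nat_lit 33), (nat_lit 0, nat_lit 0, nat_lit 19), (nat_lit 0, nat_lit 0, nat_lit 35), (nat_lit 0, nat_lit 0, nat_lit 21), (nat_lit 0, nat_lit 0, nat_lit 22), (nat_lit 0, nat_lit 22, nat_lit 22), (nat_lit 0, nat_lit 0, nat_lit 22), (nat_lit 0, nat_lit 0, nat_lit 2), (nat_lit 0, nat_lit 18, nat_lit 26), (nat_lit 0, nat_lit 0, nat_lit 27), (nat_lit 0, nat_lit 26, nat_lit 27), (nat_lit 0, nat_lit 0, nat_lit 1), (nat_lit 1,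 nat_lit 0, nat_lit 0), (nat_lit 0, nat_lit 1, nat_lit 5), (nat_lit 0, nat_lit 0, nat_lit 16), (nat_lit 0, nat_lit 0, nat_lit 7), (nat_lit 0, nat_lit 3, nat_lit 3), (nat_lit 0, nat_lit 0, nat_lit 1)]
def c1_s0 : Nat := nat_lit 0xb1f9e3a65ade8af85bb6e7187609a4a196aa0d544611330b5813883c915240701728d094
def c1_s1 : Nat := nat_lit 0xba68adbe875a8eb6de7e9859b1c9e5aa481854240a1cf34650b14c24e1164c3052217440
def c1_s2 : Nat := nat_lit 0x8ee76cb607da9ab6dc8a9aa8be59de92165840249120f5892d334c10e1855032955c7040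
def c1_s3 : Nat := nat_lit 0xbaf9ac9de8a8aed7218e991b7ea76581a6584d65155c43c644e34c1ca2092d00d2142040
def c1_s4 : Nat := nat_lit 0xbe3b66ae88aa76c925ba96dc7de9e085a65848854a3d71054ce34c1942560cb4111c2040
def c1_s5 : Nat := nat_lit 0xbe3b2d9e5a60ae6a9cb9f7a88a17646da6581054d255428b3ce34c4111c62485970c2040
noncomputable def c1_lev0 : Core.Lev := Core.mkLev c1_n c1_w c1_mask c1_L c1_maskL c1_idc (nat_lit 0) [c1_s5, c1_s3, c1_s4, c1_s2, c1_s1, c1_s0] [(nat_lit 20, c1_s0, nat_lit 0), (nat_lit 18, c1_s5, nat_lit 20), (nat_lit 21, c1_s3, nat_lit 20), (nat_lit 10, c1_s4, nat_lit 20), (nat_lit 17, c1_s2, nat_lit 20), (nat_lit 6, c1_s0, nat_lit 20), (nat_lit 4, c1_s3, nat_lit 18), (nat_lit 23, c1_s4, nat_lit 18), (nat_lit 15, c1_s2, nat_lit 18), (nat_lit 19, c1_s0, nat_lit 18), (nat_lit 16, c1_s1, nat_lit 21), (nat_lit 14, c1_s2, nat_lit 10), (nat_lit 9, c1_s0, nat_lit 10), (nat_lit 22, c1_s2, nat_lit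 17), (nat_lit 13, c1_s1, nat_lit 17), (nat_lit 12, c1_s0, nat_lit 17), (nat_lit 8, c1_s5, nat_lit 6), (nat_lit 11, c1_s4, nat_lit 6), (nat_lit 3, c1_s2, nat_lit 6), (nat_lit 7, c1_s0, nat_lit 6), (nat_lit 5, c1_s4, nat_lit 16), (nat_lit 1, c1_s0, nat_lit 14), (nat_lit 2, c1_s2, nat_lit 22)]
noncomputable def c1_lev1 : Core.Lev := Core.mkLev c1_n c1_w c1_mask c1_L c1_maskL c1_idc (nat_lit 1) [c1_s5, c1_s3, c1_s4, c1_s2, c1_s1] [(nat_lit 17, c1_s1, nat_lit 1), (nat_lit 10, c1_s5, nat_lit 17), (nat_lit 15, c1_s3, nat_lit 17), (nat_lit 4, c1_s4, nat_lit 17), (nat_lit 22, c1_s2, nat_lit 17), (nat_lit 13, c1_s1, nat_lit 17), (nat_lit 20, c1_s4, nat_lit 10), (nat_lit 14, c1_s2, nat_lit 10), (nat_lit 19, c1_s4, nat_lit 15), (nat_lit 11, c1_s2, nat_lit 15), (nat_lit 23, c1_s5, nat_lit 4), (nat_lit 18, c1_s3, nat_lit 4), (nat_lit 21, c1_s2, nat_lit 4), (nat_lit 5, c1_s5, nat_lit 22), (nat_lit 8,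 c1_s4, nat_lit 22), (nat_lit 2, c1_s2, nat_lit 22), (nat_lit 7, c1_s1, nat_lit 19), (nat_lit 16, c1_s5, nat_lit 11), (nat_lit 6, c1_s4, nat_lit 11), (nat_lit 9, c1_s1, nat_lit 11), (nat_lit 3, c1_s3, nat_lit 5)]
noncomputable def c1_lev2 : Core.Lev := Core.mkLev c1_n c1_w c1_mask c1_L c1_maskL c1_idc (nat_lit 2) [c1_s5, c1_s3, c1_s4, c1_s2] [(nat_lit 7, c1_s2, nat_lit 2), (nat_lit 9, c1_s5, nat_lit 7), (nat_lit 11, c1_s3, nat_lit 7), (nat_lit 3, c1_s4, nat_lit 7), (nat_lit 20, c1_s2, nat_lit 7), (nat_lit 8, c1_s3, nat_lit 9), (nat_lit 6, c1_s2, nat_lit 9), (nat_lit 16, c1_s5, nat_lit 11), (nat_lit 4, c1_s2, nat_lit 11), (nat_lit 5, c1_s3, nat_lit 3), (nat_lit 23, c1_s2, nat_lit 3), (nat_lit 18, c1_s5, nat_lit 20), (nat_lit 21, c1_s3, nat_lit 20), (nat_lit 10, c1_s4, nat_lit 20), (nat_lit 17, c1_s2, nat_lit 20), (nat_lit 22, c1_s4, nat_lit 8), (nat_lit 19, c1_s3, nat_lit 23), (nat_lit 15,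 c1_s2, nat_lit 18), (nat_lit 14, c1_s2, nat_lit 10)]
noncomputable def c1_lev3 : Core.Lev := Core.mkLev c1_n c1_w c1_mask c1_L c1_maskL c1_idc (nat_lit 3) [c1_s5, c1_s3, c1_s4] [(nat_lit 5, c1_s3, nat_lit 3), (nat_lit 7, c1_s4, nat_lit 3), (nat_lit 22, c1_s5, nat_lit 5), (nat_lit 16, c1_s4, nat_lit 5), (nat_lit 9, c1_s5, nat_lit 7), (nat_lit 11, c1_s3, nat_lit 7), (nat_lit 8, c1_s4, nat_lit 22), (nat_lit 6, c1_s3, nat_lit 16)]
noncomputable def c1_lev4 : Core.Lev := Core.mkLev c1_n c1_w c1_mask c1_L c1_maskL c1_idc (nat_lit 4) [c1_s5] [(nat_lit 23, c1_s5, nat_lit 4)]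
noncomputable def c1_levels : List Core.Lev := [c1_lev0, c1_lev1, c1_lev2, c1_lev3, c1_lev4]
def c2_n : Nat := nat_lit 24
def c2_w : Nat := nat_lit 5
def c2_mask : Nat := nat_lit 31
def c2_L : Nat := nat_lit 120
def c2_maskL : Nat := nat_lit 0xffffffffffffffffffffffffffffff
def c2_idc : Nat := nat_lit 0xbdab49ca307b9ac5a928398a418820
def c2_T : List Nat := [nat_lit 0xa1deb8b66655d23ad8802a1cc80452, nat_lit 0x8ba755a2923a9907dc66b24a203424]
def c2_prog : List (Nat × Nat × Nat) := [(nat_lit 1, nat_lit 0, nat_lit 0), (nat_lit 0, nat_lit 2, nat_lit 1), (nat_lit 0, nat_lit 0, nat_lit 3), (nat_lit 0, nat_lit 0, nat_lit 3), (nat_lit 0, nat_lit 0, nat_lit 4), (nat_lit 0, nat_lit 4, nat_lit 4), (nat_lit 0, nat_lit 0, nat_lit 1), (nat_lit 0, nat_lit 7, nat_lit 8), (nat_lit 0, nat_lit 0, nat_lit 9), (nat_lit 0, nat_lit 0, nat_lit 9), (nat_lit 0, nat_lit 0, nat_lit 11), (nat_lit 0, nat_lit 0, nat_lit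 11), (nat_lit 0, nat_lit 0, nat_lit 12), (nat_lit 0, nat_lit 0, nat_lit 14), (nat_lit 0, nat_lit 0, nat_lit 14), (nat_lit 0, nat_lit 0, nat_lit 15), (nat_lit 0, nat_lit 10, nat_lit 0), (nat_lit 1, nat_lit 0, nat_lit 0), (nat_lit 0, nat_lit 11, nat_lit 1), (nat_lit 0, nat_lit 0, nat_lit 12), (nat_lit 0, nat_lit 0, nat_lit 13), (nat_lit 0, nat_lit 0, nat_lit 14), (nat_lit 0, nat_lit 15, nat_lit 15), (nat_lit 0, nat_lit 0, nat_lit 6), (nat_lit 0, nat_lit 0, nat_lit 17), (nat_lit 0, nat_lit 0, nat_lit 18), (nat_lit 0, nat_lit 0, nat_lit 9), (nat_lit 0, nat_lit 0, nat_lit 10), (nat_lit 0, nat_lit 0, nat_lit 21), (nat_lit 0, nat_lit 0, nat_lit 12), (nat_lit 0, nat_lit 0, nat_lit 23), (nat_lit 0, nat_lit 13, nat_lit 0), (nat_lit 1, nat_lit 10, nat_lit 0), (nat_lit 1, nat_lit 1, nat_lit 0), (nat_lit 0, nat_lit 12, nat_lit 2), (nat_lit 0, nat_lit 0, nat_lit 13), (nat_lit 0, nat_lit 0, nat_lit 4),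 (nat_lit 0, nat_lit 0, nat_lit 15), (nat_lit 0, nat_lit 0, nat_lit 16), (nat_lit 0, nat_lit 0, nat_lit 7), (nat_lit 0, nat_lit 0, nat_lit 18), (nat_lit 0, nat_lit 0, nat_lit 9), (nat_lit 0, nat_lit 0, nat_lit 10), (nat_lit 0, nat_lit 0, nat_lit 21), (nat_lit 0, nat_lit 10, nat_lit 11), (nat_lit 0, nat_lit 0, nat_lit 12), (nat_lit 0, nat_lit 0, nat_lit 2), (nat_lit 0, nat_lit 15, nat_lit 15), (nat_lit 0, nat_lit 0, nat_lit 16), (nat_lit 0, nat_lit 0, nat_lit 27), (nat_lit 0, nat_lit 0, nat_lit 18), (nat_lit 0, nat_lit 0, nat_lit 29), (nat_lit 0, nat_lit 0, nat_lit 20), (nat_lit 0, nat_lit 0, nat_lit 21), (nat_lit 0, nat_lit 21, nat_lit 20), (nat_lit 0, nat_lit 0, nat_lit 1), (nat_lit 0, nat_lit 16, nat_lit 24), (nat_lit 0, nat_lit 0, nat_lit 25), (nat_lit 0, nat_lit 25, nat_lit 0), (nat_lit 1, nat_lit 12, nat_lit 0), (nat_lit 1, nat_lit 4, nat_lit 0), (nat_lit 0, nat_lit 2, nat_lit 5), (nat_lit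 0, nat_lit 0, nat_lit 15), (nat_lit 0, nat_lit 0, nat_lit 7), (nat_lit 0, nat_lit 3, nat_lit 0), (nat_lit 0, nat_lit 18, nat_lit 6), (nat_lit 0, nat_lit 0, nat_lit 10), (nat_lit 0, nat_lit 0, nat_lit 8), (nat_lit 0, nat_lit 0, nat_lit 12), (nat_lit 0, nat_lit 0, nat_lit 13), (nat_lit 0, nat_lit 0, nat_lit 14), (nat_lit 0, nat_lit 0, nat_lit 12), (nat_lit 0, nat_lit 0, nat_lit 13), (nat_lit 0, nat_lit 0, nat_lit 14), (nat_lit 0, nat_lit 14, nat_lit 14), (nat_lit 0, nat_lit 0, nat_lit 1)]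
def c2_s0 : Nat := nat_lit 0xa1deb8b66655d23ad8802a1cc80452
def c2_s1 : Nat := nat_lit 0xb3955bc0a25cc663c521a11ed93100
def c2_s2 : Nat := nat_lit 0x3c66fa8d697150455a4cb9a8d80820
def c2_s3 : Nat := nat_lit 0xbae85726d29bd048aa063b6a21b020
def c2_s4 : Nat := nat_lit 0x89df3ac2eda150655992591c918820
def c2_s5 : Nat := nat_lit 0x2ccea5b1c9b448d7d506a42f218820
noncomputable def c2_lev0 : Core.Lev := Core.mkLev c2_n c2_w c2_mask c2_L c2_maskL c2_idc (nat_lit 0) [c2_s4, c2_s5, c2_s3, c2_s2, c2_s1, c2_s0] [(nat_lit 18, c2_s0, nat_lit 0), (nat_lit 16, c2_s4, nat_lit 18), (nat_lit 12, c2_s5, nat_lit 18), (nat_lit 9, c2_s3, nat_lit 18), (nat_lit 3, c2_s2, nat_lit 18), (nat_lit 13, c2_s0, nat_lit 18), (nat_lit 2, c2_s1, nat_lit 16), (nat_lit 6, c2_s0, nat_lit 16), (nat_lit 4, c2_s3, nat_lit 12), (nat_lit 8, c2_s5, nat_lit 9), (nat_lit 1, c2_s0, nat_lit 2)]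
noncomputable def c2_lev1 : Core.Lev := Core.mkLev c2_n c2_w c2_mask c2_L c2_maskL c2_idc (nat_lit 1) [c2_s4, c2_s5, c2_s3, c2_s2, c2_s1] [(nat_lit 8, c2_s1, nat_lit 1), (nat_lit 18, c2_s4, nat_lit 8), (nat_lit 6, c2_s5, nat_lit 8), (nat_lit 12, c2_s2, nat_lit 8), (nat_lit 16, c2_s4, nat_lit 18), (nat_lit 9, c2_s3, nat_lit 18), (nat_lit 3, c2_s2, nat_lit 18), (nat_lit 4, c2_s4, nat_lit 6), (nat_lit 13, c2_s3, nat_lit 6), (nat_lit 2, c2_s1, nat_lit 16)]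
noncomputable def c2_lev2 : Core.Lev := Core.mkLev c2_n c2_w c2_mask c2_L c2_maskL c2_idc (nat_lit 3) [c2_s4, c2_s5, c2_s3, c2_s2] [(nat_lit 16, c2_s2, nat_lit 3), (nat_lit 13, c2_s4, nat_lit 16), (nat_lit 9, c2_s5, nat_lit 16), (nat_lit 18, c2_s3, nat_lit 16), (nat_lit 8, c2_s4, nat_lit 13), (nat_lit 4, c2_s5, nat_lit 13), (nat_lit 12, c2_s4, nat_lit 9), (nat_lit 6, c2_s5, nat_lit 8), (nat_lit 2, c2_s3, nat_lit 4)]
noncomputable def c2_lev3 : Core.Lev := Core.mkLev c2_n c2_w c2_mask c2_L c2_maskL c2_idc (nat_lit 2) [c2_s4, c2_s5, c2_s3] [(nat_lit 12, c2_s3, nat_lit 2), (nat_lit 6, c2_s4, nat_lit 12), (nat_lit 13, c2_s5, nat_lit 12), (nat_lit 4, c2_s3, nat_lit 12), (nat_lit 16, c2_s5, nat_lit 6), (nat_lit 8, c2_s4, nat_lit 13), (nat_lit 9, c2_s4, nat_lit 4), (nat_lit 18, c2_s5, nat_lit 4)]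
noncomputable def c2_lev4 : Core.Lev := Core.mkLev c2_n c2_w c2_mask c2_L c2_maskL c2_idc (nat_lit 4) [c2_s4, c2_s5] [(nat_lit 9, c2_s4, nat_lit 4), (nat_lit 18, c2_s5, nat_lit 4), (nat_lit 12, c2_s4, nat_lit 9), (nat_lit 8, c2_s5, nat_lit 9), (nat_lit 16, c2_s4, nat_lit 18), (nat_lit 6, c2_s4, nat_lit 12), (nat_lit 13, c2_s5, nat_lit 12)]
noncomputable def c2_levels : List Core.Lev := [c2_lev0, c2_lev1, c2_lev2, c2_lev3, c2_lev4]
def gens : List (Nat × Nat × Nat) := [(nat_lit 0xb1f9e3a65ade8af85bb6e7187609a4a196aa0d544611330b5813883c915240701728d094, nat_lit 0x9a28efa58adbb5da9cb2795eba87e19196a010f5804885472cd09140328c1942535c1385, nat_lit 0xa1deb8b66655d23ad8802a1cc80452), (nat_lit 0xa66aed8e0b2a7e29289ef6deba175a62565c2881d13cb5423120505944c50d724e006344, nat_lit 0x89fb29b68be48ee6a5ae67aa9e075885c65b18b44a24e50c4c404f4971565422001d0343, nat_lit 0x8ba755a2923a9907dc66b24a203424)]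
def zc : Nat := nat_lit 0xbeeb6caeaa689e69648e28607de75c6da6582ca2481c61440c20405d65544d24503ce34c
def zd : Nat := nat_lit 0xbeeb6caeaa689e69648e28607de75c6da6582ca2481c61440c20405d65544d24503ce34c
def uc : Nat := nat_lit 0x7ddba68a5aeab6969cb236689e1bde9186e04084c60422895cc0c51141d234e5952c03d1
def ud : Nat := nat_lit 0x76d9e3a689a07eca9b8ab798bdcba466585a3c510a5480170461ce0d141625430b3524c2
def vc : Nat := nat_lit 0xa6c8ee7debdc89d860b67964aea9a861969b4442151932d63013831505094875ca00d08f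
def vd : Nat := nat_lit 0xa6c8ee7debdc89d860b67964aea9a861969b1505094875ca00d08f4442151932d6301383

set_option maxRecDepth 100000

theorem hgens : Core.allL (blockOK 24 24 c1_w c1_mask c2_w c2_mask) gens = true := by decide +kernel
theorem hc : Core.checkAll (24 + 24) c1_w c1_mask c1_L c1_maskL c1_idc (gens.map (·.1)) c1_prog c1_levels = true := by decide +kernel
theorem hc' : Core.checkAll 24 c2_w c2_mask c2_L c2_maskL c2_idc (gens.map (·.2.2)) c2_prog c2_levels = true := by decide +kernel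
theorem hord1 : Core.orderC c1_levels = 2 * 95040 := by decide +kernel
theorem hord2 : Core.orderC c2_levels = 95040 := by decide +kernel
theorem hzg : goodPair (24 + 24) c1_w c1_mask zc zd = true := by decide +kernel
theorem hug : goodPair (24 + 24) c1_w c1_mask uc ud = true := by decide +kernel
theorem hvg : goodPair (24 + 24) c1_w c1_mask vc vd = true := by decide +kernel
theorem hzs : Core.sift (24 + 24) c1_w c1_mask c1_L c1_maskL c1_idc c1_levels zc = true := by decide +kernel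
theorem hus : Core.sift (24 + 24) c1_w c1_mask c1_L c1_maskL c1_idc c1_levels uc = true := by decide +kernel
theorem hvs : Core.sift (24 + 24) c1_w c1_mask c1_L c1_maskL c1_idc c1_levels vc = true := by decide +kernel
theorem hzb : Core.allL (fun b => Nat.beq (Core.app c1_w c1_mask zc (24 + b)) (24 + b)) (List.range 24) = true := by decide +kernel
theorem hzcomm : Core.allL (fun t => Nat.beq (Core.comp (24 + 24) c1_w c1_mask zc t.1) (Core.comp (24 + 24) c1_w c1_mask t.1 zc)) gens = true := by decide +kernel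
theorem hzk : Nat.beq (powC (24 + 24) c1_w c1_mask c1_idc zc 2) c1_idc = true := by decide +kernel
theorem hzp : Nat.beq (Core.app c1_w c1_mask zc 0) 0 = false := by decide +kernel
theorem huv : Nat.beq (Core.comp (24 + 24) c1_w c1_mask uc vc) (Core.comp (24 + 24) c1_w c1_mask zc (Core.comp (24 + 24) c1_w c1_mask vc uc)) = true := by decide +kernel

theorem hmem : ∀ c ∈ gens.map (·.2.2), checkAut c = true ∧ mapMask c D0 = D0 := by decide +kernel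

theorem hGgen : ∀ c ∈ gens.map (·.2.2), ∀ g, Core.Rep c2_w c2_mask e24 c g → g ∈ Spor.M12 := by
  intro c hc g hg
  obtain ⟨h1, h2⟩ := hmem c hc
  have h3 : g = Cfsg.Agent.Lib.Golay.Perm.g c := Equiv.ext fun p => by
    rw [g_apply (checkAut_valid h1)]
    exact apply_of_rep24 hg p
  rw [h3]
  exact g_mem_M12 h1 h2

/-- The stem extension. -/
theorem exists_stem : ∃ (Γ : Type) (_ : Group Γ) (_ : Finite Γ) (σ : Γ →* Spor.M12),
    IsStemExtension σ ∧ Nat.card σ.ker = 2 :=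
  exists_stem_of_cert (N := 24) (m := 24) e24 Spor.M12 (k := 2) (by norm_num) hgens hc hc'
    (by rw [card_M12]; exact hord2) (by rw [card_M12]; exact hord1) hGgen hzg hug hvg hzs hus hvs
    hzb hzcomm hzk (p := 0) (by norm_num) hzp huv

end Cfsg.Agent.Lib.Schur.Cover.M12k2
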